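import Groth.Agent.GrSegre.K509.SegSide

set_option autoImplicit false
set_option linter.unusedSectionVars false
set_option linter.style.haveILetI false
set_option warn.classDefReducibility false
universe u
open scoped TensorProduct DirectSum
open K759.Gr K759.GrObj K962.Basic K962.Pieces K962.KM K962.Seg K962.KData K962.Wrap K962.Fld
open K963.Low K963.Crit

/-!
# The Künneth formula for Segre products: dimensions of the graded pieces in cohomological degree at least two
-/

namespace K509.KunFour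

variable {k : Type u} [Field k] {R S T : Type u} [CommRing R] [Algebra k R] [CommRing S] [Algebra k S]
  [CommRing T] [Algebra k T]
  {𝒜 : ℤ → Submodule k R} [GradedAlgebra 𝒜] {ℬ : ℤ → Submodule k S} [GradedAlgebra ℬ]
  {𝒯 : ℤ → Submodule k T} [GradedAlgebra 𝒯] {ψ : T →ₐ[k] R ⊗[k] S}

theorem nontrivial_T [Nontrivial R] [Nontrivial S] (_hT : GrSeg.IsSegreRing 𝒜 ℬ 𝒯 ψ) : Nontrivial T := by
  refine ⟨⟨1, 0, fun h => ?_⟩⟩
  have h1 : (1 : R) ⊗ₜ[k] (1 : S) = 0 := by
    have := congrArg ψ h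
    rwa [map_one, map_zero, Algebra.TensorProduct.one_def] at this
  exact K962.Dims.tmul_ne_zero (one_ne_zero) (one_ne_zero) h1

theorem zero_T (hT : GrSeg.IsSegreRing 𝒜 ℬ 𝒯 ψ) (h0R : 𝒜 0 = Submodule.span k {(1 : R)})
    (h0S : ℬ 0 = Submodule.span k {(1 : S)}) : 𝒯 0 = Submodule.span k {(1 : T)} := by
  apply le_antisymm
  · intro t ht
    have h1 : ψ t ∈ GrSeg.segrePiece k 𝒜 ℬ 0 := psi_mem hT ht
    have h2 : GrSeg.segrePiece k 𝒜 ℬ 0 ≤ Submodule.span k {(1 : R ⊗[k] S)} := by
      rw [GrSeg.segrePiece, Submodule.span_le]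
      rintro _ ⟨a, ha, b, hb, rfl⟩
      rw [h0R] at ha
      rw [h0S] at hb
      obtain ⟨c, rfl⟩ := Submodule.mem_span_singleton.1 ha
      obtain ⟨c', rfl⟩ := Submodule.mem_span_singleton.1 hb
      refine Submodule.mem_span_singleton.2 ⟨c * c', ?_⟩
      rw [TensorProduct.smul_tmul_smul, Algebra.TensorProduct.one_def]
    obtain ⟨c, hc⟩ := Submodule.mem_span_singleton.1 (h2 h1)
    refine Submodule.mem_span_singleton.2 ⟨c, hT.1 ?_⟩
    rw [map_smul, map_one, hc]
  · rw [Submodule.span_le, Set.singleton_subset_iff]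
    exact SetLike.GradedOne.one_mem

variable {mT : HomogeneousIdeal 𝒯}
  {P : Type u} [AddCommGroup P] [Module T P] [Module k P] [IsScalarTower k T P]
  {τQ : Type u} [SetLike τQ P] [AddSubgroupClass τQ P]
  {𝒬 : ℤ → τQ} [DirectSum.Decomposition 𝒬] [SetLike.GradedSMul 𝒯 𝒬]
  {EP : GrLC.StarInjRes 𝒯 𝒬}
  {A : ℕ → KMod.{u} 𝒜} {B : ℕ → KMod.{u} ℬ}

theorem finrank_Hcomp [Nontrivial T] (h0 : 𝒯 0 = Submodule.span k {(1 : T)}) (n : ℕ) (d : ℤ)
    (hA : ∀ p, Module.Finite k (kg (A p) d)) (hB : ∀ q, Module.Finite k (kg (B q) d))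
    (κ : EP.H mT (n + 2) →ₗ[T] (∀ p q : ℕ, TT ψ (A p).carrier (B q).carrier)) (hκ : Function.Injective κ)
    (h1 : ∀ z p q, p + q ≠ n + 1 → κ z p q = 0)
    (h2 : ∀ z i, z ∈ EP.Hcomp mT (n + 2) i → ∀ p q, toTT.symm (κ z p q) ∈
      GrSeg.segrePiece k (kg (A p)) (kg (B q)) i)
    (h3 : ∀ i (ω : ∀ p q : ℕ, TT ψ (A p).carrier (B q).carrier), (∀ p q, p + q ≠ n + 1 → ω p q = 0) →
      (∀ p q, toTT.symm (ω p q) ∈ GrSeg.segrePiece k (kg (A p)) (kg (B q)) i) →
      ∃ z ∈ EP.Hcomp mT (n + 2) i, κ z = ω) :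
    Module.finrank (GrLC.deg0 𝒯) (EP.Hcomp mT (n + 2) d) =
      ∑ p ∈ Finset.antidiagonal (n + 1), Module.finrank k (kg (A p.1) d) * Module.finrank k (kg (B p.2) d) := by
  classical
  haveI := hA
  haveI := hB
  let W : Type u := ∀ p : Finset.antidiagonal (n + 1), GrSeg.segrePiece k (kg (A p.1.1)) (kg (B p.1.2)) d
  let f : EP.Hcomp mT (n + 2) d →+ W :=
    { toFun := fun z p => ⟨toTT.symm (κ z.1 p.1.1 p.1.2), h2 z.1 d z.2 _ _⟩
      map_zero' := by
        funext p; apply Subtype.ext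
        show toTT.symm (κ 0 p.1.1 p.1.2) = 0
        rw [map_zero]; rfl
      map_add' := fun x y => by
        funext p; apply Subtype.ext
        show toTT.symm (κ (x.1 + y.1) p.1.1 p.1.2) = toTT.symm (κ x.1 p.1.1 p.1.2) + toTT.symm (κ y.1 p.1.1 p.1.2)
        rw [map_add κ, Pi.add_apply, Pi.add_apply, map_add] }
  have hf : Function.Bijective f := by
    constructor
    · intro x y hxy
      apply Subtype.ext
      apply hκ
      funext p q
      by_cases hpq : p + q = n + 1
      · have := congrArg Subtype.val (congrFun hxy ⟨(p, q), Finset.mem_antidiagonal.2 hpq⟩)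
        exact toTT.symm.injective this
      · rw [h1 _ _ _ hpq, h1 _ _ _ hpq]
    · intro w
      let ω : ∀ p q : ℕ, TT ψ (A p).carrier (B q).carrier := fun p q =>
        if h : (p, q) ∈ Finset.antidiagonal (n + 1) then toTT (w ⟨(p, q), h⟩).1 else 0
      obtain ⟨z, hz, hzω⟩ := h3 d ω (fun p q hpq => dif_neg (fun h => hpq (Finset.mem_antidiagonal.1 h)))
        (fun p q => by
          by_cases h : (p, q) ∈ Finset.antidiagonal (n + 1)
          · show toTT.symm (dite _ _ _) ∈ _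
            rw [dif_pos h]
            exact (w ⟨(p, q), h⟩).2
          · show toTT.symm (dite _ _ _) ∈ _
            rw [dif_neg h]
            exact zero_mem _)
      refine ⟨⟨z, hz⟩, ?_⟩
      funext p
      apply Subtype.ext
      show toTT.symm (κ z p.1.1 p.1.2) = _
      rw [hzω]
      show toTT.symm (dite _ _ _) = _
      rw [dif_pos p.2]
      rfl
  have hsmul : ∀ (c : k) (v : W), (AddEquiv.ofBijective f hf).symm (c • v) =
      toDeg0 𝒯 c • (AddEquiv.ofBijective f hf).symm v := by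
    intro c v
    obtain ⟨z, rfl⟩ := (AddEquiv.ofBijective f hf).surjective v
    rw [AddEquiv.symm_apply_apply]
    apply (AddEquiv.ofBijective f hf).injective
    rw [AddEquiv.apply_symm_apply]
    funext p
    apply Subtype.ext
    show c • toTT.symm (κ z.1 p.1.1 p.1.2) = toTT.symm (κ (algebraMap k T c • z.1) p.1.1 p.1.2)
    rw [map_smul, Pi.smul_apply, Pi.smul_apply, algebraMap_smul, map_smul]
  have h4 : Module.finrank k W = Module.finrank (GrLC.deg0 𝒯) (EP.Hcomp mT (n + 2) d) :=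
    K509.SegSide.finrank_eq_of_equiv h0 (AddEquiv.ofBijective f hf).symm hsmul
  haveI : ∀ p : Finset.antidiagonal (n + 1), Module.Finite k
      (GrSeg.segrePiece k (kg (A p.1.1)) (kg (B p.1.2)) d) := fun p =>
    Module.Finite.equiv (K962.Dims.pieceEquiv (kg (A p.1.1)) (kg (B p.1.2)) d)
  rw [← h4, Module.finrank_pi_fintype, ← Finset.sum_coe_sort (Finset.antidiagonal (n + 1))]
  exact Finset.sum_congr rfl fun p _ => K962.Dims.finrank_segrePiece _ _ _

end K509.KunFour
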