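import Groth.Agent.GrSegre.K963.Crit
import Groth.Agent.GrSegre.K962.Fld
import Groth.Agent.GrLC.K859.SerreG

/-!
# Dimensions of the graded pieces of the two sides of the Künneth formula for Segre products
-/

set_option autoImplicit false
set_option linter.unusedSectionVars false
set_option linter.style.haveILetI false
set_option warn.classDefReducibility false
universe u
open scoped TensorProduct DirectSum
open K759.Gr K759.GrObj K962.Basic K962.Pieces K962.KM K962.Seg K962.KData K962.Wrap K962.Fld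
open K963.Low K963.Crit

namespace K509.SegSide

section Arith

/-- The Künneth sum rewritten with `a (p + 1) = h (p + 2)`, `b (q + 1) = h' (q + 2)`. -/
theorem sum_antidiagonal_eq (a b h h' : ℕ → ℕ) (n : ℕ) (ha : ∀ p, a (p + 1) = h (p + 2))
    (hb : ∀ q, b (q + 1) = h' (q + 2)) (h0 : h 0 = 0) (h1 : h 1 = 0) (h0' : h' 0 = 0) (h1' : h' 1 = 0) :
    ∑ p ∈ Finset.antidiagonal (n + 1), a p.1 * b p.2 =
      a 0 * h' (n + 2) + h (n + 2) * b 0 +
        (Finset.range (n + 2 + 2)).sum (fun i => h i * h' (n + 2 + 1 - i)) := by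
  rw [Finset.Nat.sum_antidiagonal_eq_sum_range_succ (fun i j => a i * b j) (n + 1), Finset.sum_range_succ,
    Finset.sum_range_succ', Finset.sum_range_succ', Finset.sum_range_succ', Finset.sum_range_succ,
    Finset.sum_range_succ]
  have e1 : n + 2 + 1 - (n + 1 + 1 + 1) = 0 := by omega
  have e2 : n + 2 + 1 - (n + 1 + 1) = 1 := by omega
  have e3 : ∑ x ∈ Finset.range n, a (x + 1) * b (n + 1 - (x + 1)) =
      ∑ x ∈ Finset.range n, h (x + 1 + 1) * h' (n + 2 + 1 - (x + 1 + 1)) := by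
    refine Finset.sum_congr rfl fun x hx => ?_
    have hx' := Finset.mem_range.1 hx
    obtain ⟨m, rfl⟩ : ∃ m, n = x + 1 + m := ⟨n - (x + 1), by omega⟩
    rw [ha, show x + 1 + m + 1 - (x + 1) = m + 1 by omega, hb,
      show x + 1 + m + 2 + 1 - (x + 1 + 1) = m + 2 by omega]
  rw [e3, e1, e2, h0', h1', h0, zero_add, h1, Nat.sub_zero, Nat.sub_self, ha, hb]
  ring

end Arith

section Fin

variable {k : Type u} [Field k] {R : Type u} [CommRing R] [Algebra k R]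
  {𝒜 : ℤ → Submodule k R} [GradedAlgebra 𝒜] [Nontrivial R] (h0 : 𝒜 0 = Submodule.span k {(1 : R)})
include h0

theorem finrank_eq_of_equiv {V W : Type u} [AddCommGroup V] [Module k V] [AddCommGroup W]
    [Module (GrLC.deg0 𝒜) W] (j : V ≃+ W) (hj : ∀ (c : k) (v : V), j (c • v) = toDeg0 𝒜 c • j v) :
    Module.finrank k V = Module.finrank (GrLC.deg0 𝒜) W := by
  rw [Module.finrank, Module.finrank, rank_eq_of_equiv_equiv (toDeg0 𝒜) j (toDeg0_bijective h0) hj]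

theorem finite_of_equiv {V W : Type u} [AddCommGroup V] [Module k V] [AddCommGroup W]
    [Module (GrLC.deg0 𝒜) W] (j : V ≃+ W) (hj : ∀ (c : k) (v : V), j (c • v) = toDeg0 𝒜 c • j v)
    (hW : Module.Finite (GrLC.deg0 𝒜) W) : Module.Finite k V := by
  let e : k ≃+* GrLC.deg0 𝒜 := RingEquiv.ofBijective (toDeg0 𝒜) (toDeg0_bijective h0)
  let f : W →ₛₗ[(e.symm : GrLC.deg0 𝒜 →+* k)] V :=
    { toFun := j.symm
      map_add' := map_add j.symm
      map_smul' := fun c w => by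
        apply j.injective
        rw [AddEquiv.apply_symm_apply, hj, AddEquiv.apply_symm_apply]
        congr 1
        exact (e.apply_symm_apply c).symm }
  exact Module.Finite.of_surjective f j.symm.surjective

end Fin

section Side

variable {k : Type u} [Field k] {R : Type u} [CommRing R] [Algebra k R]
  {𝒜 : ℤ → Submodule k R} [GradedAlgebra 𝒜] {mR : HomogeneousIdeal 𝒜}
  {M : Type u} [AddCommGroup M] [Module R M] [Module k M] [IsScalarTower k R M]
  {τ : Type u} [SetLike τ M] [AddSubgroupClass τ M]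
  {ℳ : ℤ → τ} [DirectSum.Decomposition ℳ] [SetLike.GradedSMul 𝒜 ℳ]
  {EM : GrLC.StarInjRes 𝒜 ℳ} {A : ℕ → KMod.{u} 𝒜} {ε : M →ₗ[R] (A 0).carrier}

/-- if `H⁰ = H¹ = 0` the degree `d` piece of `A 0` is that of `M`. -/
noncomputable def zeroEquiv (h : Side0 EM mR A ε) (h0' : Subsingleton (EM.H mR 0))
    (h1' : Subsingleton (EM.H mR 1)) (d : ℤ) : GrLC.comp 𝒜 ℳ d ≃+ kg (A 0) d :=
  AddEquiv.ofBijective
    ({ toFun := fun m => ⟨ε m, h.gr d m m.2⟩
       map_zero' := Subtype.ext (map_zero ε)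
       map_add' := fun x y => Subtype.ext (map_add ε (x : M) (y : M)) } : GrLC.comp 𝒜 ℳ d →+ kg (A 0) d)
    ⟨fun x y hxy => Subtype.ext (ε_injective h h0' (congrArg Subtype.val hxy)), fun z => by
      obtain ⟨m, hm, hz⟩ := (Hcomp_one_eq_bot_iff h d).1
        (K963.Iface.Hcomp_eq_bot_of_subsingleton EM mR 1 h1' d) z.1 z.2
      exact ⟨⟨m, hm⟩, Subtype.ext hz⟩⟩

theorem zeroEquiv_symm_smul (h : Side0 EM mR A ε) (h0' : Subsingleton (EM.H mR 0))
    (h1' : Subsingleton (EM.H mR 1)) (d : ℤ) (c : k) (v : kg (A 0) d) :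
    (zeroEquiv h h0' h1' d).symm (c • v) = toDeg0 𝒜 c • (zeroEquiv h h0' h1' d).symm v := by
  apply (zeroEquiv h h0' h1' d).injective
  rw [AddEquiv.apply_symm_apply]
  apply Subtype.ext
  have h2 : ((zeroEquiv h h0' h1' d) (toDeg0 𝒜 c • (zeroEquiv h h0' h1' d).symm v) : (A 0).carrier) =
      ε (algebraMap k R c • ((zeroEquiv h h0' h1' d).symm v : M)) := rfl
  have h3 : ε ((zeroEquiv h h0' h1' d).symm v : M) = (v : (A 0).carrier) :=
    congrArg Subtype.val ((zeroEquiv h h0' h1' d).apply_symm_apply v)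
  rw [h2, map_smul, h3, algebraMap_smul]
  rfl

variable [Nontrivial R] (h0 : 𝒜 0 = Submodule.span k {(1 : R)})
include h0

theorem finrank_zero (h : Side0 EM mR A ε) (h0' : Subsingleton (EM.H mR 0)) (h1' : Subsingleton (EM.H mR 1))
    (d : ℤ) : Module.finrank k (kg (A 0) d) = Module.finrank (GrLC.deg0 𝒜) (GrLC.comp 𝒜 ℳ d) :=
  finrank_eq_of_equiv h0 (zeroEquiv h h0' h1' d).symm (zeroEquiv_symm_smul h h0' h1' d)

theorem finite_zero [Algebra.FiniteType k R] [Module.Finite R M] (h : Side0 EM mR A ε)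
    (h0' : Subsingleton (EM.H mR 0)) (h1' : Subsingleton (EM.H mR 1)) (d : ℤ) :
    Module.Finite k (kg (A 0) d) := by
  haveI : IsNoetherianRing R := Algebra.FiniteType.isNoetherianRing k R
  exact finite_of_equiv h0 (zeroEquiv h h0' h1' d).symm (zeroEquiv_symm_smul h h0' h1' d)
    (K759.Piece.finite_comp 𝒜 ℳ d)

omit [Nontrivial R] h0 in
theorem exists_succEquiv (h : Side0 EM mR A ε) (p : ℕ) (d : ℤ) :
    ∃ j : kg (A (p + 1)) d ≃+ EM.Hcomp mR (p + 2) d, ∀ (c : k) v, j (c • v) = toDeg0 𝒜 c • j v := by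
  obtain ⟨θ, hθ⟩ := h.succ p
  refine ⟨AddEquiv.ofBijective
    ({ toFun := fun m => ⟨θ m, (hθ m d).1 m.2⟩
       map_zero' := Subtype.ext (map_zero θ)
       map_add' := fun x y => Subtype.ext (map_add θ (x : (A (p + 1)).carrier) (y : (A (p + 1)).carrier)) } :
       kg (A (p + 1)) d →+ EM.Hcomp mR (p + 2) d)
    ⟨fun x y hxy => Subtype.ext (θ.injective (congrArg Subtype.val hxy)), fun z => ?_⟩, fun c v => ?_⟩
  · exact ⟨⟨θ.symm z.1, (hθ _ d).2 (by rw [LinearEquiv.apply_symm_apply]; exact z.2)⟩,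
      Subtype.ext (LinearEquiv.apply_symm_apply θ z.1)⟩
  · apply Subtype.ext
    show θ (c • (v : (A (p + 1)).carrier)) = algebraMap k R c • θ (v : (A (p + 1)).carrier)
    rw [← map_smul, algebraMap_smul]

theorem finrank_succ (h : Side0 EM mR A ε) (p : ℕ) (d : ℤ) :
    Module.finrank k (kg (A (p + 1)) d) = Module.finrank (GrLC.deg0 𝒜) (EM.Hcomp mR (p + 2) d) := by
  obtain ⟨j, hj⟩ := exists_succEquiv h p d
  exact finrank_eq_of_equiv h0 j hj

theorem finite_succ [Algebra.FiniteType k R] [Module.Finite R M]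
    (hmR : mR.toIdeal = Ideal.span (⋃ n ∈ Set.Ioi (0 : ℤ), (𝒜 n : Set R)))
    (h : Side0 EM mR A ε) (p : ℕ) (d : ℤ) : Module.Finite k (kg (A (p + 1)) d) := by
  haveI : IsNoetherianRing R := Algebra.FiniteType.isNoetherianRing k R
  obtain ⟨E'⟩ := K963.Iface.nonempty_res 𝒜 (kmod 𝒜 ℳ).gr
  have hfin : Module.Finite (GrLC.deg0 𝒜) (E'.Hcomp mR (p + 2) d) :=
    (K859.SerreG.stmt mR hmR (p + 2) (kmod 𝒜 ℳ).toG ‹Module.Finite R M› E').2 d
  obtain ⟨θ', hθ'⟩ := transfer EM E' mR (p + 2)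
  obtain ⟨j, hj⟩ := exists_succEquiv h p d
  let f : E'.Hcomp mR (p + 2) d →ₗ[GrLC.deg0 𝒜] EM.Hcomp mR (p + 2) d :=
    { toFun := fun z => ⟨θ'.symm z.1, (hθ' _ d).2 (by rw [LinearEquiv.apply_symm_apply]; exact z.2)⟩
      map_add' := fun x y => Subtype.ext (map_add θ'.symm x.1 y.1)
      map_smul' := fun c x => Subtype.ext (map_smul θ'.symm (c : R) x.1) }
  have hf : Function.Surjective f := fun z =>
    ⟨⟨θ' z.1, (hθ' _ d).1 z.2⟩, Subtype.ext (θ'.symm_apply_apply z.1)⟩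
  exact finite_of_equiv h0 j hj (Module.Finite.of_surjective f hf)

theorem finite_kg [Algebra.FiniteType k R] [Module.Finite R M]
    (hmR : mR.toIdeal = Ideal.span (⋃ n ∈ Set.Ioi (0 : ℤ), (𝒜 n : Set R)))
    (h : Side0 EM mR A ε) (h0' : Subsingleton (EM.H mR 0)) (h1' : Subsingleton (EM.H mR 1)) (p : ℕ) (d : ℤ) :
    Module.Finite k (kg (A p) d) := by
  match p with
  | 0 => exact finite_zero h0 h h0' h1' d
  | p + 1 => exact finite_succ h0 hmR h p d

end Side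

section LowDeg

variable {k : Type u} [Field k] {R S T : Type u} [CommRing R] [Algebra k R] [CommRing S] [Algebra k S]
  [CommRing T] [Algebra k T]
  {𝒜 : ℤ → Submodule k R} [GradedAlgebra 𝒜] {ℬ : ℤ → Submodule k S} [GradedAlgebra ℬ]
  {𝒯 : ℤ → Submodule k T} [GradedAlgebra 𝒯] {ψ : T →ₐ[k] R ⊗[k] S}
  {mR : HomogeneousIdeal 𝒜} {mS : HomogeneousIdeal ℬ} {mT : HomogeneousIdeal 𝒯}
  {M N P : Type u} [AddCommGroup M] [Module R M] [Module k M] [IsScalarTower k R M]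
  [AddCommGroup N] [Module S N] [Module k N] [IsScalarTower k S N]
  [AddCommGroup P] [Module T P] [Module k P] [IsScalarTower k T P]
  {τM τN τQ : Type u} [SetLike τM M] [AddSubgroupClass τM M] [SetLike τN N] [AddSubgroupClass τN N]
  [SetLike τQ P] [AddSubgroupClass τQ P]
  {ℳ : ℤ → τM} [DirectSum.Decomposition ℳ] [SetLike.GradedSMul 𝒜 ℳ]
  {𝒩 : ℤ → τN} [DirectSum.Decomposition 𝒩] [SetLike.GradedSMul ℬ 𝒩]
  {𝒬 : ℤ → τQ} [DirectSum.Decomposition 𝒬] [SetLike.GradedSMul 𝒯 𝒬]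
  {EM : GrLC.StarInjRes 𝒜 ℳ} {EN : GrLC.StarInjRes ℬ 𝒩} {EP : GrLC.StarInjRes 𝒯 𝒬}
  {A : ℕ → KMod.{u} 𝒜} {B : ℕ → KMod.{u} ℬ} {ε : M →ₗ[R] (A 0).carrier} {η : N →ₗ[S] (B 0).carrier}
  {φ : P →ₗ[k] M ⊗[k] N}

theorem low_zero (hP : GrSeg.IsSegreMod ψ ℳ 𝒩 𝒬 φ) (hA : Side0 EM mR A ε) (hB : Side0 EN mS B η)
    (hM0 : Subsingleton (EM.H mR 0)) (hN0 : Subsingleton (EN.H mS 0))
    (z0 : Subsingleton (EP.H mT 0) ↔ ∀ w : P,
      TensorProduct.map (ε.restrictScalars k) (η.restrictScalars k) (φ w) = 0 → w = 0) (d : ℤ) :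
    EP.Hcomp mT 0 d = ⊥ :=
  K963.Iface.Hcomp_eq_bot_of_subsingleton EP mT 0
    (subsingleton_zero hP.injective z0 (ε_injective hA hM0) (ε_injective hB hN0)) d

theorem low_one (hP : GrSeg.IsSegreMod ψ ℳ 𝒩 𝒬 φ) (hA : Side0 EM mR A ε) (hB : Side0 EN mS B η)
    (hM1 : Subsingleton (EM.H mR 1)) (hN1 : Subsingleton (EN.H mS 1))
    (z1 : ∀ g, EP.Hcomp mT 1 g = ⊥ ↔ ∀ ω ∈ GrSeg.segrePiece k (kg (A 0)) (kg (B 0)) g,
        ∃ w : P, TensorProduct.map (ε.restrictScalars k) (η.restrictScalars k) (φ w) = ω) (d : ℤ) :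
    EP.Hcomp mT 1 d = ⊥ := by
  refine Hcomp_one_of hP z1 fun x hx y hy _ _ => ?_
  obtain ⟨m, hm, hmx⟩ := (Hcomp_one_eq_bot_iff hA d).1
    (K963.Iface.Hcomp_eq_bot_of_subsingleton EM mR 1 hM1 d) x hx
  obtain ⟨n, hn, hny⟩ := (Hcomp_one_eq_bot_iff hB d).1
    (K963.Iface.Hcomp_eq_bot_of_subsingleton EN mS 1 hN1 d) y hy
  exact ⟨m, hm, n, hn, hmx, hny⟩

end LowDeg

end K509.SegSide
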